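import Groth.Agent.Lib.TorPts21.FieldDescent
import Groth.Agent.Lib.TorPts21.Max
import Groth.Agent.Lib.TorPts21.ImageTorus
import Groth.Agent.Lib.FinBorel21.Pairs
import Groth.Agent.S3901
import Groth.Agent.S3927
import Groth.Agent.S5355

/-!
# Maximal tori and central isogenies
-/

set_option autoImplicit false
set_option linter.style.haveILetI false
set_option backward.isDefEq.respectTransparency.types false
universe u

open CategoryTheory Limits MonoidalCategory CartesianMonoidalCategory MonObj AlgebraicGeometry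

noncomputable section

namespace Groth.Agent.CentIsog21

open DiagGL TorPts21

section Desc

variable {S : Scheme.{u}}

/-- A point lifts along a faithfully flat morphism after an epimorphism. -/
theorem exists_cover {A C X : Over S} (p : A ⟶ C) [Flat p.left] [Surjective p.left] (t : X ⟶ C) :
    ∃ (X' : Over S) (π : X' ⟶ X) (a : X' ⟶ A), π ≫ t = a ≫ p ∧ Epi π := by
  let X' : Over S := Over.mk (pullback.fst t.left p.left ≫ X.hom)
  let π : X' ⟶ X := Over.homMk (pullback.fst t.left p.left) rfl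
  let a : X' ⟶ A := Over.homMk (pullback.snd t.left p.left) (by
    show pullback.snd t.left p.left ≫ A.hom = pullback.fst t.left p.left ≫ X.hom
    rw [← Over.w p, ← Category.assoc, ← pullback.condition, Category.assoc, Over.w t])
  haveI : Flat π.left := inferInstanceAs (Flat (pullback.fst t.left p.left))
  haveI : Surjective π.left := inferInstanceAs (Surjective (pullback.fst t.left p.left))
  haveI : Epi π.left := Flat.epi_of_flat_of_surjective _
  exact ⟨X', π, a, Over.OverMorphism.ext pullback.condition, Over.epi_of_epi_left π⟩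

variable {G : Over S} [GrpObj G]

/-- What commutes with a covering commutes with the image. -/
theorem commute_of_cover {A C X : Over S} (p : A ⟶ C) [Flat p.left] [Surjective p.left] (c : C ⟶ G) (h : X ⟶ G)
    (hh : ∀ (X' : Over S) (x : X' ⟶ X) (a : X' ⟶ A), (x ≫ h) * (a ≫ p ≫ c) = (a ≫ p ≫ c) * (x ≫ h))
    (X' : Over S) (x : X' ⟶ X) (t : X' ⟶ C) : (x ≫ h) * (t ≫ c) = (t ≫ c) * (x ≫ h) := by
  obtain ⟨Y, π, a, ha, hπ⟩ := exists_cover p t
  rw [← cancel_epi π, MonObj.comp_mul, MonObj.comp_mul]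
  have h1 := hh Y (π ≫ x) a
  rw [← Category.assoc a p c, ← ha] at h1
  simpa only [Category.assoc] using h1

/-- The preimage of a torus is a torus containing the kernel. -/
theorem isPullback_of_self_central {H T T' : Over S} [GrpObj H] [GrpObj T] [GrpObj T'] {f : H ⟶ G} [IsMonHom f]
    {j : T' ⟶ H} [IsMonHom j] [Mono j] {i : T ⟶ G} [Mono i] {p : T' ⟶ T} [Flat p.left] [Surjective p.left]
    (hp : p ≫ i = j ≫ f) (hcomm : ∀ {X : Over S} (a b : X ⟶ T'), a * b = b * a)
    (hself : ∀ (X : Over S) (h : X ⟶ H),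
      (∀ (X' : Over S) (x : X' ⟶ X) (t : X' ⟶ T'), (x ≫ h) * (t ≫ j) = (t ≫ j) * (x ≫ h)) →
        ∃ t : X ⟶ T', t ≫ j = h)
    (hker : ∀ (X : Over S) (h : X ⟶ H), h ≫ f = 1 → ∃ s : X ⟶ T', s ≫ j = h) : IsPullback j p f i := by
  have key : ∀ (W : Over S) (h : W ⟶ H) (t : W ⟶ T), h ≫ f = t ≫ i → ∃ z : W ⟶ T', z ≫ j = h := by
    intro W h t e
    refine hself W h fun X' x u => ?_
    obtain ⟨Y, π, a, ha, hπ⟩ := exists_cover p (x ≫ t)
    obtain ⟨s, hs⟩ := hker Y ((π ≫ x ≫ h) * (a ≫ j)⁻¹) (by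
      rw [MonObj.mul_comp, GrpObj.inv_comp, Category.assoc, Category.assoc, e, Category.assoc a j f, ← hp,
        ← Category.assoc a p i, ← ha]
      simp only [Category.assoc, mul_inv_cancel])
    have e2 : π ≫ x ≫ h = (s * a) ≫ j := by rw [MonObj.mul_comp, hs, inv_mul_cancel_right]
    rw [← cancel_epi π, MonObj.comp_mul, MonObj.comp_mul, e2, ← Category.assoc π u j, ← MonObj.mul_comp,
      ← MonObj.mul_comp, hcomm]
  choose z hz using key
  refine IsPullback.of_isLimit (c := PullbackCone.mk j p hp.symm)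
    (PullbackCone.IsLimit.mk _ (fun c => z c.pt c.fst c.snd c.condition) (fun c => hz _ _ _ _) (fun c => ?_)
      (fun c m hm _ => (cancel_mono j).1 (hm.trans (hz _ _ _ _).symm)))
  rw [← cancel_mono i, Category.assoc, hp, ← Category.assoc, hz]
  exact c.condition

end Desc

variable {k : Type u} [Field k] [IsAlgClosed k]

/-- A torus is commutative. -/
theorem comm_of_torus {T : Over (Spec (CommRingCat.of k))} [GrpObj T] (hT : Red.IsTorus T)
    {X : Over (Spec (CommRingCat.of k))} (a b : X ⟶ T) : a * b = b * a := by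
  obtain ⟨d, ⟨C⟩⟩ := exists_chars hT
  exact commute_of_chars C a b

/-- Maximal tori are self centralizing. -/
theorem exists_lift_of_commute {G T : Over (Spec (CommRingCat.of k))} [GrpObj G] [GrpObj T]
    (hG : Red.IsReductiveOver k G) {iT : T ⟶ G} (hT : AGF.IsMaxTorus iT) {X : Over (Spec (CommRingCat.of k))}
    (g : X ⟶ G)
    (hg : ∀ (X' : Over (Spec (CommRingCat.of k))) (x : X' ⟶ X) (t : X' ⟶ T),
      (x ≫ g) * (t ≫ iT) = (t ≫ iT) * (x ≫ g)) : ∃ t : X ⟶ T, t ≫ iT = g := by
  haveI := hG.1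
  haveI := hG.2.1
  haveI := hT.1
  obtain ⟨C, _, c, hc, -, -⟩ :=
    MTRigid29.exists_centralizer (MTRigid29.isMT_of_ft (isMultTypeFT_of_isTorus hT.2.2.1)) hG.2.1 inferInstance iT
  obtain ⟨z, hz⟩ := (hc.2.2 X g).2 hg
  obtain ⟨f, hf⟩ := exists_lift_cartan_reductive hG hT hc
  exact ⟨z ≫ f, by rw [Category.assoc, hf, hz]⟩

variable {H H' : Over (Spec (CommRingCat.of k))} [GrpObj H] [GrpObj H'] (hH' : Red.IsReductiveOver k H')
  (hH : Red.IsReductiveOver k H) (f : H' ⟶ H) [IsMonHom f] [Surjective f.left]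

include hH hH' in
/-- The image of a maximal torus. -/
theorem exists_image_maxTorus {S' : Over (Spec (CommRingCat.of k))} [GrpObj S'] {j : S' ⟶ H'}
    (hj : AGF.IsMaxTorus j) :
    ∃ (T : Over (Spec (CommRingCat.of k))) (_ : GrpObj T) (i : T ⟶ H) (p : S' ⟶ T),
      AGF.IsMaxTorus i ∧ Flat p.left ∧ Surjective p.left ∧ IsMonHom p ∧ p ≫ i = j ≫ f := by
  haveI := hH'.1
  haveI := hH'.2.1
  haveI := hH'.2.2.1
  haveI := hH.1
  haveI := hH.2.1
  haveI := hH.2.2.1
  haveI := hj.1
  obtain ⟨hSa, hSs, -, -⟩ := props_of_isTorus hj.2.2.1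
  haveI := hSa
  haveI := hSs
  obtain ⟨T, _, i, p, him, hic, hTr, hps, hp⟩ := BorelFix21.exists_image (j ≫ f)
  haveI := him
  haveI := hic
  haveI := hTr
  haveI := hps
  haveI : Mono i := Over.mono_of_mono_left i
  haveI : IsMonHom p := BorelFix21.isMonHom_of_comp i p (by rw [hp]; infer_instance)
  haveI : IsAffine T.left := isAffine_of_isAffineHom i.left
  haveI : QuasiCompact p.left := inferInstance
  exact ⟨T, inferInstance, i, p, S3927.result k H' H f S' j hj T i hic p hp,
    (S5355.result k S' T p p.left.surjective.denseRange).2 inferInstance, hps, inferInstance, hp⟩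

include hH hH' in
/-- The preimage of a maximal torus under a central isogeny. -/
theorem exists_isPullback_maxTorus {T : Over (Spec (CommRingCat.of k))} [GrpObj T] {i : T ⟶ H}
    (hi : AGF.IsMaxTorus i)
    (hcen : ∀ (X : Over (Spec (CommRingCat.of k))) (h : X ⟶ H'), h ≫ f = 1 →
      ∀ (X' : Over (Spec (CommRingCat.of k))) (x : X' ⟶ X) (g : X' ⟶ H'), (x ≫ h) * g = g * (x ≫ h)) :
    ∃ (S : Over (Spec (CommRingCat.of k))) (_ : GrpObj S) (j : S ⟶ H') (p : S ⟶ T),
      AGF.IsMaxTorus j ∧ IsPullback j p f i := by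
  haveI := hH'.1
  haveI := hH'.2.1
  haveI := hH'.2.2.1
  haveI := hH.1
  haveI := hH.2.1
  haveI := hH.2.2.1
  haveI := hi.1
  haveI := hi.2.1
  obtain ⟨S₀, _, j₀, hj₀⟩ := exists_maxTorus H'
  obtain ⟨T₀, _, i₀, p₀, hi₀, hpf, hps, hpm, hp⟩ := exists_image_maxTorus hH' hH f hj₀
  haveI := hi₀.1
  haveI := hpf
  haveI := hps
  obtain ⟨g, e, he⟩ := S3901.result k H T₀ T i₀ i hi₀ hi
  obtain ⟨g', hg'⟩ : ∃ g' : 𝟙_ (Over (Spec (CommRingCat.of k))) ⟶ H', g' ≫ f = g := by
    obtain ⟨x, hx⟩ := BorelFix21.exists_pt_lift f (gpt g)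
    refine ⟨InvRing21.toPt _ ≫ x, ?_⟩
    rw [Category.assoc, hx, gpt, ← Category.assoc]
    simp
  let j := AGF.conjBy g' j₀
  have hj : AGF.IsMaxTorus j := isMaxTorus_conjBy hj₀ g'
  haveI := hj.1
  haveI := hj.2.1
  haveI : IsIso e.hom.left := inferInstanceAs (IsIso ((Over.forget _).map e.hom))
  haveI : Flat (p₀ ≫ e.hom).left := by rw [Over.comp_left]; infer_instance
  haveI : Surjective (p₀ ≫ e.hom).left := by rw [Over.comp_left]; infer_instance
  refine ⟨S₀, inferInstance, j, p₀ ≫ e.hom, hj, isPullback_of_self_central ?_ (fun a b => comm_of_torus hj.2.2.1 a b)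
    (fun X h hh => exists_lift_of_commute hH' hj h hh) fun X h hh =>
      exists_lift_of_commute hH' hj h fun X' x t => hcen X h hh X' x _⟩
  show (p₀ ≫ e.hom) ≫ i = AGF.conjBy g' j₀ ≫ f
  rw [Category.assoc, he]
  simp only [AGF.conjBy, MonObj.mul_comp, MonObj.comp_mul, GrpObj.inv_comp, GrpObj.comp_inv, Category.assoc, hg',
    hp]
  simp [← Category.assoc]

end Groth.Agent.CentIsog21
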