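import Groth.Agent.Lib.CentIsog21.Basic
import Groth.Agent.S3917

/-!
# Central isogenies over a field
-/

set_option autoImplicit false
set_option linter.style.haveILetI false
set_option backward.isDefEq.respectTransparency.types false
universe u

open CategoryTheory Limits MonoidalCategory CartesianMonoidalCategory MonObj AlgebraicGeometry

noncomputable section

namespace Groth.Agent.CentIsog21

open DiagGL TorPts21

variable {k : Type u} [Field k] {H H' : Over (Spec (CommRingCat.of k))} [GrpObj H] [GrpObj H']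
  {f : H' ⟶ H} [IsMonHom f]

theorem central_of_kernel {K : Over (Spec (CommRingCat.of k))} [GrpObj K] {iK : K ⟶ H'}
    (hK : AlgGrp.IsKernel iK f)
    (hKc : ∀ (X : Over (Spec (CommRingCat.of k))) (x : X ⟶ K) (X' : Over (Spec (CommRingCat.of k))) (y : X' ⟶ X)
      (h : X' ⟶ H'), (y ≫ x ≫ iK) * h = h * (y ≫ x ≫ iK))
    (X : Over (Spec (CommRingCat.of k))) (h : X ⟶ H') (hh : h ≫ f = 1)
    (X' : Over (Spec (CommRingCat.of k))) (x : X' ⟶ X) (g : X' ⟶ H') : (x ≫ h) * g = g * (x ≫ h) := by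
  have h1 : h ≫ f = toUnit X ≫ η[H] := hh.trans Hom.one_def
  obtain ⟨z, hz, -⟩ := hK.exists_lift h (toUnit X) h1
  rw [← hz]
  exact hKc X z X' x g

omit [GrpObj H'] [IsMonHom f] in
theorem flat_geomPt (s : Spec (CommRingCat.of k)) : Surjective (Red.geomPt s) :=
  ⟨fun z => ⟨IsLocalRing.closedPoint _, Subsingleton.elim _ _⟩⟩

theorem central_bc {K : Type u} [Field K] (φ : Spec (CommRingCat.of K) ⟶ Spec (CommRingCat.of k))
    (hc : ∀ (X : Over (Spec (CommRingCat.of k))) (h : X ⟶ H'), h ≫ f = 1 →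
      ∀ (X' : Over (Spec (CommRingCat.of k))) (x : X' ⟶ X) (g : X' ⟶ H'), (x ≫ h) * g = g * (x ≫ h))
    (X : Over (Spec (CommRingCat.of K))) (h : X ⟶ Red.bc φ H') (hh : h ≫ (Over.pullback φ).map f = 1)
    (X' : Over (Spec (CommRingCat.of K))) (x : X' ⟶ X) (g : X' ⟶ Red.bc φ H') :
    (x ≫ h) * g = g * (x ≫ h) := by
  have hone : fl φ H (1 : X ⟶ Red.bc φ H) = 1 := by
    have h2 := fl_mul φ H (1 : X ⟶ Red.bc φ H) 1
    rw [_root_.one_mul] at h2
    exact left_eq_mul.1 h2
  have h1 : fl φ H' h ≫ f = 1 := by rw [← DiagGL.fl_comp_map φ h f, hh, hone]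
  refine fl_injective φ H' ?_
  rw [fl_mul, fl_mul, fl_comp]
  exact hc _ _ h1 _ _ _

/-- The preimage of a maximal torus under a central isogeny is a maximal torus. -/
theorem isMaximalTorus_preimage (hH' : Red.IsReductive H') (hH : Red.IsReductive H) [Surjective f.left]
    (hc : ∀ (X : Over (Spec (CommRingCat.of k))) (h : X ⟶ H'), h ≫ f = 1 →
      ∀ (X' : Over (Spec (CommRingCat.of k))) (x : X' ⟶ X) (g : X' ⟶ H'), (x ≫ h) * g = g * (x ≫ h))
    {T : Over (Spec (CommRingCat.of k))} [GrpObj T] {i : T ⟶ H} (hT : Red.IsMaximalTorus i)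
    {T' : Over (Spec (CommRingCat.of k))} [GrpObj T'] {i' : T' ⟶ H'} [IsMonHom i'] {p : T' ⟶ T}
    (hsq : IsPullback i' p f i) : Red.IsMaximalTorus i' := by
  haveI := hT.2.1
  haveI : Mono i' := hsq.mono_fst_of_mono
  have key : ∀ s : Spec (CommRingCat.of k), AGF.IsMaxTorus ((Over.pullback (Red.geomPt s)).map i') := fun s => by
    let F := Over.pullback (Red.geomPt s)
    haveI : Surjective (F.map f).left :=
      MorphismProperty.of_isPullback (P := @Surjective) (MTRigid29.isPullback_map_left (Red.geomPt s) f)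
        ‹Surjective f.left›
    have hsq' := hsq.map F
    obtain ⟨S, _, j, q, hj, hS⟩ := exists_isPullback_maxTorus (hH'.2.2 s) (hH.2.2 s) (F.map f)
      (isMaxTorus_geomFibre hT s) (central_bc (Red.geomPt s) hc)
    let e := hsq'.isoIsPullback _ _ hS
    have he : e.hom ≫ j = F.map i' := hsq'.isoIsPullback_hom_fst _ _ hS
    haveI := hj.1
    haveI := hj.2.1
    haveI : IsMonHom e.hom := BorelFix21.isMonHom_of_comp j e.hom (by rw [he]; infer_instance)
    rw [← he]
    exact FinBorel21.isMaxTorus_iso hj e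
  exact ⟨inferInstance, inferInstance, isTorus_of_bc _ (key (IsLocalRing.closedPoint k)).2.2.1,
    fun s T'' _ j _ _ g hT'' hg => (key s).2.2.2 T'' j g hT'' hg⟩

set_option maxHeartbeats 800000 in
/-- A maximal torus is the preimage of a maximal torus under a central isogeny. -/
theorem exists_isPullback (hH' : Red.IsReductive H') (hH : Red.IsReductive H) [Surjective f.left]
    (hc : ∀ (X : Over (Spec (CommRingCat.of k))) (h : X ⟶ H'), h ≫ f = 1 →
      ∀ (X' : Over (Spec (CommRingCat.of k))) (x : X' ⟶ X) (g : X' ⟶ H'), (x ≫ h) * g = g * (x ≫ h))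
    {S' : Over (Spec (CommRingCat.of k))} [GrpObj S'] {j : S' ⟶ H'} (hS' : Red.IsMaximalTorus j) :
    ∃ (T : Over (Spec (CommRingCat.of k))) (_ : GrpObj T) (i : T ⟶ H) (p : S' ⟶ T),
      Red.IsMaximalTorus i ∧ IsPullback j p f i := by
  obtain ⟨hHa', hHs', -⟩ := props_of_isReductive hH'
  obtain ⟨hHa, hHs, -⟩ := props_of_isReductive hH
  haveI := hHa'
  haveI := hHs'
  haveI := hHa
  haveI := hHs
  haveI := hS'.1
  haveI := hS'.2.1
  obtain ⟨C, _, c, hcz, hcc, hCs⟩ := MTRigid29.exists_centralizer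
    (MTRigid29.isMT_of_ft (isMultTypeFT_of_isTorus hS'.2.2.1)) hHs inferInstance (j ≫ f)
  haveI := hcz.1
  haveI := hcz.2.1
  haveI := hcc
  haveI := hCs
  have hScomm : ∀ {X : Over (Spec (CommRingCat.of k))} (a b : X ⟶ S'), a * b = b * a := fun a b =>
    MTRigid29.commute_of_isMultTypeFT (isMultTypeFT_of_isTorus hS'.2.2.1) a b
  obtain ⟨p, hp⟩ := (hcz.2.2 S' (j ≫ f)).2 fun X' x h => by
    rw [← MonObj.mul_comp, ← MonObj.mul_comp, hScomm]
  haveI : IsMonHom p := BorelFix21.isMonHom_of_comp c p (by rw [hp]; infer_instance)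
  have s : Spec (CommRingCat.of k) := IsLocalRing.closedPoint k
  let F := Over.pullback (Red.geomPt s)
  haveI : Surjective (F.map f).left :=
    MorphismProperty.of_isPullback (P := @Surjective) (MTRigid29.isPullback_map_left (Red.geomPt s) f)
      ‹Surjective f.left›
  obtain ⟨T₁, _, i₁, p₁, hi₁, hp₁f, hp₁s, hp₁m, hp₁⟩ :=
    exists_image_maxTorus (hH'.2.2 s) (hH.2.2 s) (F.map f) (isMaxTorus_geomFibre hS' s)
  haveI := hi₁.1
  haveI := hi₁.2.1
  have hcz' := isCentralizerOf_bc (Red.geomPt s) hcz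
  have hju : F.map (j ≫ f) = p₁ ≫ i₁ := by rw [F.map_comp, hp₁]
  obtain ⟨a, ha⟩ := exists_lift_of_commute (hH.2.2 s) hi₁ (F.map c) fun X' x t => by
    refine commute_of_cover p₁ i₁ (F.map c) (fun Y y b => ?_) X' x t
    rw [← hju]
    exact (hcz'.2.2 _ _).1 ⟨𝟙 _, Category.id_comp _⟩ Y y b
  obtain ⟨b, hb⟩ := (hcz'.2.2 T₁ i₁).2 fun X' x h => by
    rw [hju, ← Category.assoc h p₁ i₁, ← MonObj.mul_comp, ← MonObj.mul_comp, comm_of_torus hi₁.2.2.1]
  haveI : IsMonHom b := BorelFix21.isMonHom_of_comp (F.map c) b (by rw [hb]; infer_instance)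
  haveI : IsMonHom a := BorelFix21.isMonHom_of_comp i₁ a (by rw [ha]; infer_instance)
  let e : Red.bc (Red.geomPt s) C ≅ T₁ :=
    ⟨a, b, (cancel_mono (F.map c)).1 (by rw [Category.assoc, hb, ha, Category.id_comp]),
      (cancel_mono i₁).1 (by rw [Category.assoc, ha, hb, Category.id_comp])⟩
  haveI : IsMonHom e.hom := ‹IsMonHom a›
  obtain ⟨r, ⟨C₁⟩⟩ := exists_chars hi₁.2.2.1
  have hCt : Red.IsTorus C := isTorus_of_bc (Red.geomPt s) (isTorus_of_chars (C₁.transport (Grp.mkIso' e)))
  have hCcomm : ∀ {X : Over (Spec (CommRingCat.of k))} (a b : X ⟶ C), a * b = b * a := fun a b =>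
    MTRigid29.commute_of_isMultTypeFT (isMultTypeFT_of_isTorus hCt) a b
  have hCmax : Red.IsMaximalTorus c := (S3917.result k H hH C c hCt).2 ⟨inferInstance, inferInstance, fun X g =>
    ⟨fun ⟨z, hz⟩ X' x h => by rw [← hz, ← Category.assoc, ← MonObj.mul_comp, ← MonObj.mul_comp, hCcomm],
      fun hg => (hcz.2.2 X g).2 fun X' x h => by
        rw [← hp, ← Category.assoc h p c]
        exact hg X' x _⟩⟩
  -- surjectivity
  have hpF : F.map p ≫ a = p₁ := (cancel_mono i₁).1 (by rw [Category.assoc, ha, ← F.map_comp, hp, hju])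
  haveI : Surjective (F.map p).left := by
    haveI := hp₁s
    haveI : IsIso a := ⟨⟨b, e.hom_inv_id, e.inv_hom_id⟩⟩
    haveI : IsIso a.left := inferInstanceAs (IsIso ((Over.forget _).map a))
    have h2 : (F.map p).left = p₁.left ≫ inv a.left := by
      rw [IsIso.eq_comp_inv, ← Over.comp_left, hpF]
    rw [h2]
    infer_instance
  haveI : Surjective p.left := by
    haveI := flat_geomPt s
    haveI : Surjective (Limits.pullback.fst C.hom (Red.geomPt s)) := inferInstance
    have h := MTRigid29.isPullback_map_left (Red.geomPt s) p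
    haveI : Surjective ((F.map p).left ≫ Limits.pullback.fst C.hom (Red.geomPt s)) := inferInstance
    have h2 : Surjective (Limits.pullback.fst S'.hom (Red.geomPt s) ≫ p.left) := by
      rw [show Limits.pullback.fst S'.hom (Red.geomPt s) ≫ p.left =
        (F.map p).left ≫ Limits.pullback.fst C.hom (Red.geomPt s) from (Limits.pullback.lift_fst _ _ _).symm]
      infer_instance
    exact Surjective.of_comp (Limits.pullback.fst S'.hom (Red.geomPt s)) p.left
  haveI : IsAffine C.left := isAffine_of_isAffineHom c.left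
  haveI : IsAffine S'.left := by
    haveI := (MTRigid29.isClosedImmersion_of_mono (isMultTypeFT_of_isTorus hS'.2.2.1) inferInstance j)
    exact isAffine_of_isAffineHom j.left
  haveI : IsReduced C.left := OrbitTop19.isReduced_of_smooth C.hom
  haveI : Flat p.left := (S5355.result k S' C p p.left.surjective.denseRange).2 inferInstance
  exact ⟨C, inferInstance, c, p, hCmax, isPullback_of_self_central hp hScomm
    (fun X h hh => exists_lift_of_commute_maxTorus hH' hS' h hh) fun X h hh =>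
      exists_lift_of_commute_maxTorus hH' hS' h fun X' x t => hc X h hh X' x _⟩

end Groth.Agent.CentIsog21
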